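import Mathlib

set_option autoImplicit false
universe u
open CategoryTheory AlgebraicGeometry Limits

namespace Groth.Agent.H5.MorSch

theorem exists_open_range_subset_iff
    {V X U S : Scheme.{u}} (g : X ⟶ S) [IsProper g] (i : V ⟶ X) [IsClosedImmersion i]
    (j : U ⟶ X) [IsOpenImmersion j] :
    ∃ S₀ : S.Opens, ∀ (S' : Scheme.{u}) (f : S' ⟶ S),
      Set.range f ⊆ (S₀ : Set S) ↔
        Set.range (pullback.fst (i ≫ g) f ≫ i) ⊆ Set.range j := by
  -- the bad closed set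
  have hcl : IsClosed (g '' (Set.range i \ Set.range j)) := by
    apply g.isClosedMap
    exact i.isClosedEmbedding.isClosed_range.sdiff j.isOpenEmbedding.isOpen_range
  refine ⟨⟨(g '' (Set.range i \ Set.range j))ᶜ, hcl.isOpen_compl⟩, fun S' f => ?_⟩
  constructor
  · rintro h _ ⟨z, rfl⟩
    by_contra hz
    have h1 : g ((pullback.fst (i ≫ g) f ≫ i) z) ∈ g '' (Set.range i \ Set.range j) :=
      ⟨_, ⟨⟨pullback.fst (i ≫ g) f z, by simp⟩, hz⟩, rfl⟩
    have h2 : g ((pullback.fst (i ≫ g) f ≫ i) z) = f (pullback.snd (i ≫ g) f z) := by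
      rw [← Scheme.Hom.comp_apply, ← Scheme.Hom.comp_apply, Category.assoc, pullback.condition]
    rw [h2] at h1
    exact h ⟨_, rfl⟩ h1
  · rintro h _ ⟨s', rfl⟩ ⟨x, ⟨⟨v, rfl⟩, hx⟩, hgx⟩
    apply hx
    obtain ⟨z, hz1, hz2⟩ := Scheme.Pullback.exists_preimage_pullback (f := i ≫ g) (g := f) v s'
      (by simpa using hgx)
    apply h
    exact ⟨z, by simp [hz1]⟩

end Groth.Agent.H5.MorSch
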